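import Mathlib

/-!
# Lyons' theorem: the finite check

A row records, for a character of the principal 2-block, the value `t` on elements of order 4, the generalized
decomposition numbers `a, b, c, d, e` at an involution, and the Frobenius-Schur indicator `v`.
`Row.md` is a lower bound for the degree; `certs` are linear programming certificates; `chk0` to `chk4` check them.
-/

set_option autoImplicit false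
set_option maxRecDepth 100000

namespace H23.Ly

structure Row where
  t : ℤ
  a : ℤ
  b : ℤ
  c : ℤ
  d : ℤ
  e : ℤ
  v : ℤ

structure Cert where
  (y0 y1 y2 y3 y4 y5 y6 y7 y8 y9 y10 y11 y12 y13 y14 y15 y16 y17 y18 y19 : ℤ)

namespace Row
def sm (r : Row) : ℤ := r.a + r.b + r.c + r.d + r.e
def sv (r : Row) : ℤ := 5 * r.t - 4 * r.sm
def em0 (r : Row) : ℤ := 1 + max 0 (max (-r.t) ((r.t - r.sm + 3) / 4))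
def em (r : Row) : ℤ := if r.v = -1 then r.em0 + r.em0 % 2 else r.em0
def md (r : Row) : ℤ := 64 * r.em - 11 * r.t + 12 * r.sm
def nm (r : Row) : ℤ := 4 * (r.t * r.t) + (r.t - 4 * r.a) * (r.t - 4 * r.a) + (r.t - 4 * r.b) * (r.t - 4 * r.b) +
  (r.t - 4 * r.c) * (r.t - 4 * r.c) + (r.t - 4 * r.d) * (r.t - 4 * r.d) + (r.t - 4 * r.e) * (r.t - 4 * r.e)
def cj (r : Row) : Row := ⟨r.t, r.a, r.e, r.d, r.c, r.b, r.v⟩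
def Adm (r : Row) : Prop := r.nm ≤ 64 ∧ (r.v = 1 → (r.t + r.sm) % 2 = 0) ∧ (r.v = -1 → r.t % 2 = 0)
instance decAdm (r : Row) : Decidable r.Adm := by unfold Adm; infer_instance
end Row

namespace Cert
def A (y : Cert) (r : Row) : ℤ := y.y0 * (r.t * r.t) + y.y1 * (r.t * r.a) + y.y2 * (r.t * (r.b + r.e)) +
  y.y3 * (r.t * (r.c + r.d)) + y.y4 * (r.a * r.a) + y.y5 * (r.a * (r.b + r.e)) + y.y6 * (r.a * (r.c + r.d)) +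
  y.y7 * (r.b * r.b + r.e * r.e) + y.y8 * (r.c * r.c + r.d * r.d) + y.y9 * (r.b * r.e) + y.y10 * (r.c * r.d) +
  y.y11 * ((r.b + r.e) * (r.c + r.d)) + y.y12 * (r.v * r.t) + y.y13 * (r.v * r.a) + y.y14 * (r.v * (r.b + r.e)) +
  y.y15 * (r.v * (r.c + r.d))
def L (y : Cert) (r : Row) : ℤ := y.y16 * r.t + y.y17 * (2 * r.a - (r.b + r.e)) + y.y18 * (2 * r.a - (r.c + r.d)) +
  y.y19 * r.a
def tot (y : Cert) : ℤ := 15 * y.y0 + 3 * y.y1 + 8 * y.y2 + 8 * y.y3 + 4 * y.y4 + 2 * y.y5 + 2 * y.y6 + 10 * y.y7 +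
  10 * y.y8 + y.y9 + y.y10 + 4 * y.y11 - y.y12 - 2 * y.y13 - 2 * y.y14 - 2 * y.y15 - y.y16 - 2 * y.y17 - 2 * y.y18 - y.y19
def lb (y : Cert) (r : Row) : ℤ := y.A r + if 0 ≤ y.L r then 0 else y.L r * (r.sv * r.sv) / r.md
end Cert

def certs : List Cert := [⟨0, 0, 0, 0, 120, 28, -60, 0, 0, 0, 0, 0, 0, 60, 0, 0, 0, 0, 0, 60⟩,
  ⟨10, -4, -20, -20, -20, 17, -20, 12, 12, 23, 23, 23, -15, 20, 14, 14, 0, 20, 20, 0⟩,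
  ⟨413, -500, -460, -500, -500, 2286, -500, 136, 175, 271, 348, 309, -425, 500, 257, 257, 500, 33, 217, 0⟩,
  ⟨1252, 2924, -2414, -1266, 3911, -1799, -5000, 1187, 432, 2373, 863, 1097, -162, -2924, 162, -162, 5000, 2721, -345, 248⟩,
  ⟨2, -17, -1, -12, -20, 25, 30, 1, 21, 1, 40, 5, -1, 20, 1, 20, 6, 0, 20, 0⟩,
  ⟨0, -10, 0, 0, -10, 17, 12, 9, 0, 18, 0, -4, 0, 10, 10, 0, 0, 0, 0, 10⟩,
  ⟨5, -5, -10, 0, 10, -10, -10, 5, 1, 10, -2, 0, -10, 10, 10, 0, 0, 0, 0, 0⟩,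
  ⟨5, -10, 0, -10, -10, 8, -10, 0, 5, 0, 10, 0, -10, 0, 0, 10, 0, 0, 0, 0⟩,
  ⟨13, 5, -20, -20, -19, 16, -20, 8, 8, 16, 16, 16, 1, 20, 0, 0, 0, 15, 8, 0⟩,
  ⟨1252, -5000, -1266, -2414, 3745, 7314, 6113, 432, 1187, 863, 2373, 1097, 4, 5000, 16, -16, 5000, -345, 2721, 248⟩]

abbrev R5 := ℤ × ℤ × ℤ × ℤ × ℤ
def rr (x : R5) : Row := ⟨x.1, x.2.1, x.2.2.1, x.2.2.2.1, x.2.2.2.1, x.2.2.1, x.2.2.2.2⟩

def NEG : List R5 := [(-3, -1, -1, -1, 1), (-3, -1, -1, 0, 1), (-3, -1, 0, -1, 1), (-1, -1, -1, -1, 1),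
  (-1, -1, -1, 0, 1), (-1, -1, 0, -1, 1), (-1, -1, 0, 0, 1), (0, 1, -1, 0, -1), (0, 1, 0, -1, -1), (0, 1, 0, 0, -1),
  (0, 1, 0, 1, -1), (0, 1, 1, 0, -1), (1, -1, 0, 0, 1), (1, -1, 0, 1, 1), (1, -1, 1, 0, 1), (2, 1, 0, 0, -1),
  (2, 1, 0, 1, -1), (2, 1, 1, 0, -1), (2, 1, 1, 1, -1)]
def POS : List R5 := [(-2, -1, -1, -1, -1), (-2, -1, -1, 0, -1), (-2, -1, 0, -1, -1), (-2, -1, 0, 0, -1),
  (-1, 1, -1, 0, 1), (-1, 1, 0, -1, 1), (-1, 1, 0, 0, 1), (0, -1, -1, 0, -1), (0, -1, 0, -1, -1), (0, -1, 0, 0, -1),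
  (0, -1, 0, 1, -1), (0, -1, 1, 0, -1), (1, 1, 0, 0, 1), (1, 1, 0, 1, 1), (1, 1, 1, 0, 1), (1, 1, 1, 1, 1),
  (3, 1, 0, 1, 1), (3, 1, 1, 0, 1), (3, 1, 1, 1, 1)]

def T7 : List ℤ := [-3, -2, -1, 0, 1, 2, 3]
def T5 : List ℤ := [-2, -1, 0, 1, 2]
def T2 : List ℤ := [1, -1]

def Ok0 (r : Row) : Prop := 0 < r.md ∧ ∀ y ∈ certs, 0 ≤ y.A r ∧ 0 ≤ y.A r * r.md + y.L r * (r.sv * r.sv)
instance decOk0 (r : Row) : Decidable (Ok0 r) := by unfold Ok0; infer_instance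
def Kill (a b c d : Row) : Prop := (0 < a.md ∧ 0 < b.md ∧ 0 < c.md ∧ 0 < d.md) ∧
  ((a.a = -1 ∧ b.a = -1 ∧ c.a = -1 ∧ d.a = -1) ∨ ∃ y ∈ certs, y.tot < y.lb a + y.lb b + y.lb c + y.lb d)
instance decKill (a b c d : Row) : Decidable (Kill a b c d) := by unfold Kill; infer_instance

theorem chk_cert : ∀ y ∈ certs, 0 ≤ y.y19 := by decide +kernel

theorem chk0 : ∀ t ∈ T7, ∀ b ∈ T5, ∀ c ∈ T5, ∀ d ∈ T5, ∀ e ∈ T5, Row.Adm ⟨t, 0, b, c, d, e, 0⟩ →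
    Ok0 ⟨t, 0, b, c, d, e, 0⟩ := by decide +kernel

theorem chk1 : ∀ t ∈ T7, ∀ b ∈ T5, ∀ c ∈ T5, ∀ v ∈ T2, Row.Adm ⟨t, 0, b, c, c, b, v⟩ → Ok0 ⟨t, 0, b, c, c, b, v⟩ := by
  decide +kernel

theorem chk2 : ∀ t ∈ T7, ∀ b ∈ T5, ∀ c ∈ T5, ∀ v ∈ T2, Row.Adm ⟨t, -v, b, c, c, b, v⟩ → (t, -v, b, c, v) ∈ NEG := by
  decide +kernel

theorem chk2' : ∀ t ∈ T7, ∀ b ∈ T5, ∀ c ∈ T5, ∀ v ∈ T2, Row.Adm ⟨t, v, b, c, c, b, v⟩ → (t, v, b, c, v) ∈ POS := by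
  decide +kernel

theorem chk3 : ∀ x ∈ NEG, ∀ y ∈ NEG, ∀ z ∈ NEG, ∀ w ∈ POS,
    x.2.1 * x.1 + y.2.1 * y.1 + z.2.1 * z.1 + w.2.1 * w.1 = 3 →
    x.2.1 * x.2.2.1 + y.2.1 * y.2.2.1 + z.2.1 * z.2.2.1 + w.2.1 * w.2.2.1 = 1 →
    x.2.1 * x.2.2.2.1 + y.2.1 * y.2.2.2.1 + z.2.1 * z.2.2.2.1 + w.2.1 * w.2.2.2.1 = 1 →
    Kill (rr x) (rr y) (rr z) (rr w) := by decide +kernel

def zr (x y : R5) (s b c : ℤ) : Row := ⟨s * ((3 - x.2.1 * x.1 - y.2.1 * y.1) / 2), s, b, c,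
  s * (1 - x.2.1 * x.2.2.2.1 - y.2.1 * y.2.2.2.1) - c, s * (1 - x.2.1 * x.2.2.1 - y.2.1 * y.2.2.1) - b, 0⟩

theorem chk4 : ∀ x ∈ NEG, ∀ y ∈ NEG, (3 - x.2.1 * x.1 - y.2.1 * y.1) % 2 = 0 → ∀ s ∈ T2, ∀ b ∈ T5, ∀ c ∈ T5,
    (zr x y s b c).Adm → Kill (rr x) (rr y) (zr x y s b c) (zr x y s b c).cj := by decide +kernel

end H23.Ly
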