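import Mathlib
import Cfsg.Agent.H23.GW1
import Cfsg.Agent.H08.Simp2
import Cfsg.Agent.H04.Aut
import Cfsg.Agent.H04.Rank
import Cfsg.Agent.H05.Burnside
import Cfsg.Agent.H18.FC1
import Cfsg.Agent.H24.T26
import Cfsg.Agent.H27.Zsigmondy
import Cfsg.Agent.H27.Act
import Cfsg.Agent.H22.Pump

/-!
# Perfect groups of automorphisms of 2-groups

`H23.OS.le_of_trans`: a perfect group normalising a transitive group `X` of automorphisms lies in `X`.
-/

set_option autoImplicit false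
set_option linter.unusedSectionVars false
open Cfsg BG Subgroup H22 H23.GW H04
open scoped commutatorElement

namespace H23.OS
universe u
variable {G : Type u} [Group G] [Finite G] {W : Type u} [Group W] [Finite W] {p r n : ℕ}

theorem sol_of_perf {X : Subgroup G} (h : ∀ K ≤ X, ⁅K, K⁆ = K → K = ⊥) : Group.IsSolvable X := by
  induction X using WellFoundedLT.induction with
  | ind X ih =>
  rcases (der_le X).lt_or_eq with h1 | h1
  · have := ih _ h1 fun K hK => h K (hK.trans h1.le)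
    rw [← map_subtype_commutator] at this
    have := Group.isSolvable_of_surjective (f := (equivMapOfInjective (_root_.commutator X) _ X.subtype_injective).symm.toMonoidHom)
      (equivMapOfInjective (_root_.commutator X) _ X.subtype_injective).symm.surjective
    have : Group.IsSolvable (X ⧸ _root_.commutator X) := inferInstanceAs (Group.IsSolvable (Abelianization X))
    exact H02.isSolvable_of_normal_of_quotient (_root_.commutator X)
  · rw [h X le_rfl h1]; infer_instance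

theorem perf_23 {K : Subgroup G} (hK : ⁅K, K⁆ = K) (h : ∀ r : ℕ, r.Prime → r ∣ Nat.card K → r = 2 ∨ r = 3) : K = ⊥ :=
  eq_bot_of_perfect_of_sol hK (H05.isSolvable_of_prime_dvd K Nat.prime_two Nat.prime_three h)

theorem perf_map {H : Type*} [Group H] {K : Subgroup G} (hK : ⁅K, K⁆ = K) (f : G →* H) : ⁅K.map f, K.map f⁆ = K.map f := by
  rw [← map_commutator, hK]

theorem perf_frat {X K : Subgroup G} (hp : p.Prime) {P : Subgroup G} (hP : IsSylowIn p P X) (hK : ⁅K, K⁆ = K)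
    (hn : K ≤ N_(X)) (h : ∀ L ≤ N_(P), ⁅L, L⁆ = L → L = ⊥) : K ≤ X :=
  le_of_perfect_of_sol hK (le_sup_right.trans (sylow_frattini hp hP le_sup_left (sup_le_norm_left hn)).ge)
    (inf_le_left.trans (sup_le_norm_left hn)) (sol_of_perf fun L hL => h L (hL.trans inf_le_right))

theorem dvd_sub_one {c : ℕ} (hp : p.Prime) (hr : r.Prime) (hne : r ≠ p) (hc : c ≤ n) (h : p ^ n ≡ p ^ c [MOD r]) :
    r ∣ p ^ (n - c) - 1 := by
  have h1 := (Nat.modEq_iff_dvd' (Nat.pow_le_pow_right hp.pos hc)).1 h.symm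
  rw [show p ^ n - p ^ c = p ^ c * (p ^ (n - c) - 1) by
    rw [Nat.mul_sub, ← pow_add, Nat.add_sub_cancel' hc, mul_one]] at h1
  exact (((Nat.coprime_primes hr hp).2 hne).pow_right c).dvd_of_dvd_mul_left h1

/-- fixed points of an automorphism of prime order on a `p`-group -/
theorem aut_prime (hp : p.Prime) (hr : r.Prime) (hne : r ≠ p) (hW : Nat.card W = p ^ n) {a : MulAut W}
    (ha : orderOf a = r) : ∃ c < n, Nat.card (fixSub a) = p ^ c ∧ r ∣ p ^ (n - c) - 1 := by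
  have := Fact.mk hr
  obtain ⟨c, hc, e⟩ := (Nat.dvd_prime_pow hp).1 (hW ▸ card_dvd_top (fixSub a))
  have h1 := card_modEq_card_inf_fixSub (q := r) (n := 1) (a := a) (by rw [pow_one, ← ha, pow_orderOf_eq_one]) ⊤
    fun _ _ => mem_top _
  rw [card_top, top_inf_eq, hW, e] at h1
  refine ⟨c, hc.lt_of_ne fun e' => hr.one_lt.ne ?_, e, dvd_sub_one hp hr hne hc h1⟩
  rw [← ha, (aut_eq_one_iff_fixSub (a := a)).2 (eq_top_of_card_eq _ (by rw [e, hW, e'])), orderOf_one]

theorem perf_small (hW : Nat.card W = 2 ^ n) (hn : n ≤ 2) {K : Subgroup (MulAut W)} (hK : ⁅K, K⁆ = K) : K = ⊥ := by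
  refine perf_23 hK fun r hr hd => or_iff_not_imp_left.2 fun h2 => ?_
  obtain ⟨a, -, ha⟩ := exists_orderOf_eq_prime hr hd
  obtain ⟨c, hc, -, h⟩ := aut_prime Nat.prime_two hr h2 hW ha
  obtain e | e : n - c = 1 ∨ n - c = 2 := by omega
  · rw [e] at h; exact absurd (Nat.dvd_one.1 h) hr.one_lt.ne'
  · rw [e] at h; exact (Nat.prime_dvd_prime_iff_eq hr Nat.prime_three).1 h

/-- irreducible action -/
def Irr (P : Subgroup (MulAut W)) : Prop := ∀ U : Subgroup W, (∀ a ∈ P, ∀ x ∈ U, a x ∈ U) → U = ⊥ ∨ U = ⊤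

variable {P K X : Subgroup (MulAut W)} {a : MulAut W}

theorem Irr.fix (h : Irr P) (ha : a ∈ C_(P)) (h1 : a ≠ 1) : fixSub a = ⊥ :=
  (h _ fun b hb x hx => by
    rw [mem_fixSub, ← MulAut.mul_apply, ← mem_cent.1 ha b hb, MulAut.mul_apply, mem_fixSub.1 hx]).resolve_right
    fun e => h1 (aut_eq_one_iff_fixSub.2 e)

theorem Irr.perf (h : Irr P) (hW : Nat.card W = 2 ^ n) (hK : ⁅K, K⁆ = K) (hc : K ≤ C_(P)) : K = ⊥ := by
  refine eq_bot_of_perfect_of_sol hK (ft fun hd => ?_)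
  obtain ⟨a, haK, ha⟩ := exists_orderOf_eq_prime Nat.prime_two hd
  have h1 : a ≠ 1 := fun e => by simp [e] at ha
  have h2 := card_modEq_card_inf_fixSub (q := 2) (n := 1) (a := a) (by rw [pow_one, ← ha, pow_orderOf_eq_one]) ⊤
    fun _ _ => mem_top _
  rw [card_top, top_inf_eq, hW, h.fix (hc haK) h1, card_bot] at h2
  rcases n with _ | n
  · have := (Nat.card_eq_one_iff_unique.1 hW).1
    exact h1 (MulEquiv.ext fun _ => Subsingleton.elim _ _)
  · rw [pow_succ, Nat.ModEq, Nat.mul_mod_left] at h2; omega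

theorem Irr.cyc (h : Irr P) {Z : Subgroup (MulAut W)} (hZ : Z ≤ C_(P)) (hc : IsMulCommutative Z) : IsCyclic Z := by
  rcases subsingleton_or_nontrivial W with e | e
  · have : Subsingleton (MulAut W) := ⟨fun _ _ => MulEquiv.ext fun _ => Subsingleton.elim _ _⟩
    infer_instance
  · have := (H18.IsFC.of_act Z.subtype fun g hg k hk => mem_bot.1
      (h.fix (hZ g.2) (fun e => hg (Subtype.ext e)) ▸ mem_fixSub.2 hk)).isCyclic_aux (Or.inl hc)
    exact this

theorem irr_zp (hW : Nat.card W = 2 ^ n) (hp : p.Prime) (h2 : p ≠ 2) (hz : ∀ k, 0 < k → k < n → ¬ p ∣ 2 ^ k - 1)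
    (ha : orderOf a = p) : Irr (zpowers a) := fun U hU => by
  have := Fact.mk hp
  obtain ⟨c, hc, e, h⟩ := aut_prime Nat.prime_two hp h2 hW ha
  have h0 : c = 0 := by
    by_contra h0
    exact hz _ (by omega) (by omega) h
  obtain ⟨d, hd, e'⟩ := (Nat.dvd_prime_pow Nat.prime_two).1 (hW ▸ card_dvd_top U)
  have h1 := card_modEq_card_inf_fixSub (q := p) (n := 1) (a := a) (by rw [pow_one, ← ha, pow_orderOf_eq_one]) U
    (hU a (mem_zpowers a))
  rw [BG.card_eq_one.1 (by rw [e, h0, pow_zero] : Nat.card (fixSub a) = 1), inf_bot_eq, card_bot, e'] at h1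
  rcases Nat.eq_zero_or_pos d with h3 | h3
  · exact Or.inl (BG.card_eq_one.1 (by rw [e', h3, pow_zero]))
  · refine Or.inr (eq_top_of_card_eq _ ?_)
    rw [e', hW, hd.eq_of_not_lt fun h4 => hz d h3 h4 ((Nat.modEq_iff_dvd' Nat.one_le_two_pow).1 h1.symm)]

theorem perf_cent_cyc {Z K : Subgroup G} (hZ : IsCyclic Z) (hK : ⁅K, K⁆ = K) (hn : K ≤ N_(Z)) : K ≤ C_(Z) :=
  hK.ge.trans (H24.der_le_cent_of_cyclic hZ hn)

theorem perf_zsig (hW : Nat.card W = 2 ^ n) (hp : p.Prime) (h2 : p ≠ 2) (hz : ∀ k, 0 < k → k < n → ¬ p ∣ 2 ^ k - 1)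
    (hP : IsPGroup p P) (h0 : P ≠ ⊥) (hK : ⁅K, K⁆ = K) (hn : K ≤ N_(P)) : K = ⊥ := by
  obtain ⟨a, haZ, ha⟩ := exists_orderOf_eq_prime hp (pg_dvd hp (pg_le hP inf_le_left) (pg_center_ne_bot hp hP h0))
  have h := irr_zp hW hp h2 hz ha
  have hc : zpowers a ≤ P ⊓ C_(P) := zpowers_le.2 haZ
  exact h.perf hW hK ((perf_cent_cyc (h.cyc (inf_le_left.trans (cent_symm (hc.trans inf_le_right))) (abelian_center P)) hK
    (norm_inf hn (norm_cent hn))).trans (cent_anti hc))

theorem card_aut_64 (hW : Nat.card W = 2 ^ 6) : Nat.card (MulAut W) ∣ 2 ^ 30 * (3 ^ 4 * (5 * 7 ^ 2 * 31)) := by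
  obtain ⟨r, hr, e⟩ := (Nat.dvd_prime_pow Nat.prime_two).1 (hW ▸ index_dvd_card (frattini W))
  refine (card_mulAut_dvd hW e).trans ?_
  interval_cases r <;> simp [Fin.prod_univ_succ]

theorem card_aut_8 (hW : Nat.card W = 2 ^ 3) : Nat.card (MulAut W) ∣ 3 * (2 ^ 9 * 7) := by
  obtain ⟨r, hr, e⟩ := (Nat.dvd_prime_pow Nat.prime_two).1 (hW ▸ index_dvd_card (frattini W))
  refine (card_mulAut_dvd hW e).trans ?_
  interval_cases r <;> simp [Fin.prod_univ_succ]

theorem perf_64 (hW : Nat.card W = 2 ^ 6) (h : Irr P) (hP : IsPGroup 3 P) (h0 : P ≠ ⊥) (hK : ⁅K, K⁆ = K)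
    (hn : K ≤ N_(P)) : K = ⊥ := by
  have h3 := Nat.prime_three
  refine h.perf hW hK ?_
  have hZ := perf_cent_cyc (h.cyc inf_le_right (abelian_center P)) hK (norm_inf hn (norm_cent hn))
  obtain ⟨m, hm⟩ := pg_card h3 hP
  have hm4 : m ≤ 4 := by
    have := (hm ▸ card_dvd_top P).trans (card_aut_64 hW)
    rw [(Nat.Coprime.pow _ _ (by norm_num)).dvd_mul_left, (Nat.Coprime.pow_left _ (by norm_num)).dvd_mul_right] at this
    exact (Nat.pow_dvd_pow_iff_le_right (by norm_num)).1 this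
  have h1 := perf_23 (perf_map (perfect_subgroupOf hK hn) P.normalizerMonoidHom) fun r hr hd => by
    by_contra h2
    push Not at h2
    obtain ⟨_, ⟨k, hk, rfl⟩, ha⟩ := exists_orderOf_eq_prime hr hd
    obtain ⟨c, hc, e, h4⟩ := aut_prime h3 hr h2.2 hm ha
    obtain ⟨z, hz, h5⟩ := exists_mem_ne_one (pg_center_ne_bot h3 hP h0)
    have h6 : c ≠ 0 := fun e' => by
      have : (⟨z, hz.1⟩ : P) ∈ fixSub (P.normalizerMonoidHom k) := Subtype.ext (by
        show (k : MulAut W) * z * (k : MulAut W)⁻¹ = z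
        rw [← show z * (k : MulAut W) = k * z from mem_cent.1 (hZ hk) z hz, mul_inv_cancel_right])
      rw [BG.card_eq_one.1 (by rw [e, e', pow_zero] : Nat.card (fixSub (P.normalizerMonoidHom k)) = 1)] at this
      exact h5 (congrArg Subtype.val (mem_bot.1 this))
    have h7 : r ∣ 2 ^ 30 * (3 ^ 4 * (5 * 7 ^ 2 * 31)) := (hd.trans ((card_map_dvd _ _).trans
      ((Nat.card_congr (subgroupOfEquivOfLe hn).toEquiv).dvd.trans (card_dvd_top K)))).trans (card_aut_64 hW)
    have h8 : r ∣ 2 ^ 3 * 13 := by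
      obtain e | e | e : m - c = 1 ∨ m - c = 2 ∨ m - c = 3 := by omega
      all_goals rw [e] at h4; exact h4.trans (by norm_num)
    have h9 := Nat.dvd_gcd h7 h8
    exact h2.1 ((Nat.prime_dvd_prime_iff_eq hr Nat.prime_two).1 (hr.dvd_of_dvd_pow (n := 3) (by simpa using h9)))
  intro k hk
  have : P.normalizerMonoidHom ⟨k, hn hk⟩ ∈ (⊥ : Subgroup _) := h1 ▸ mem_map_of_mem _ hk
  rwa [mem_bot, ← MonoidHom.mem_ker, normalizerMonoidHom_ker] at this

theorem perf_eight (hW : Nat.card W = 2 ^ n) (hn3 : n ≤ 3) (hX : ¬ 2 ∣ Nat.card X) (h0 : X ≠ ⊥) (hK : ⁅K, K⁆ = K)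
    (hn : K ≤ N_(X)) : K = ⊥ := by
  rcases hn3.lt_or_eq with e | rfl
  · exact perf_small hW (by omega) hK
  have h7 : Nat.Prime 7 := by norm_num
  have hz : ∀ k, 0 < k → k < 3 → ¬ 7 ∣ 2 ^ k - 1 := fun k h1 h2 => by interval_cases k <;> norm_num
  by_cases hd : 7 ∣ Nat.card X
  · obtain ⟨P, hP⟩ := sylow_exists h7 X
    exact eq_bot_of_perfect_of_sol hK (sol_of_le (ft hX) (perf_frat h7 hP hK hn fun L hL hL' =>
      perf_zsig hW h7 (by norm_num) hz (IsSylowIn.pg hP h7) (IsSylowIn.ne_bot' hP h7 hd) hL' hL))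
  have h3 : Nat.card X = 3 := by
    have := (card_dvd_top X).trans (card_aut_8 hW)
    rw [(Nat.Coprime.mul_right ((Nat.prime_two.coprime_iff_not_dvd.2 hX).symm.pow_right _)
      (h7.coprime_iff_not_dvd.2 hd).symm).dvd_mul_right] at this
    exact ((Nat.dvd_prime Nat.prime_three).1 this).resolve_left fun e => h0 (BG.card_eq_one.1 e)
  have hc := perf_cent_cyc (cyclic_of_prime (h3 ▸ Nat.prime_three)) hK hn
  refine perf_23 hK fun r hr hrd => ?_
  by_contra h2
  push Not at h2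
  obtain ⟨a, haK, ha⟩ := exists_orderOf_eq_prime hr hrd
  obtain rfl : r = 7 := by
    have := (hrd.trans (card_dvd_top K)).trans (card_aut_8 hW)
    rw [((Nat.coprime_primes hr Nat.prime_three).2 h2.2).dvd_mul_left,
      (((Nat.coprime_primes hr Nat.prime_two).2 h2.1).pow_right _).dvd_mul_left] at this
    exact (Nat.prime_dvd_prime_iff_eq hr h7).1 this
  obtain ⟨x, hx, hx3⟩ := exists_orderOf_eq_prime Nat.prime_three h3.symm.dvd
  obtain ⟨c, -, e, h4⟩ := aut_prime Nat.prime_two Nat.prime_three (by norm_num) hW hx3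
  rw [(irr_zp hW h7 h2.1 hz ha).fix (cent_symm (zpowers_le.2 (hc haK)) hx) (fun e => by simp [e] at hx3), card_bot,
    eq_comm, Nat.pow_eq_one] at e
  rw [e.resolve_left (by norm_num)] at h4
  norm_num at h4

theorem dvd_of_orbits {m : ℕ} (U : Subgroup W) (hU : ∀ a ∈ P, ∀ x ∈ U, a x ∈ U)
    (h : ∀ x : W, x ≠ 1 → m ∣ (MulAction.stabilizer P x).index) : m ∣ Nat.card U - 1 := by
  classical
  have := Fintype.ofFinite W
  have h1 : Nat.card U - 1 = ((Finset.univ.filter (· ∈ U)).erase 1).card := by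
    rw [Finset.card_erase_of_mem (by simp), Nat.card_eq_fintype_card, Fintype.card_subtype]
  rw [h1, Finset.card_eq_sum_card_image (fun x => MulAction.orbit P x)]
  refine Finset.dvd_sum fun s hs => ?_
  obtain ⟨x, hx, rfl⟩ := Finset.mem_image.1 hs
  simp only [Finset.mem_erase, Finset.mem_filter, Finset.mem_univ, true_and] at hx
  refine (h x hx.1).trans (dvd_of_eq (Eq.symm ?_))
  rw [MulAction.index_stabilizer, ← Set.ncard_coe_finset]
  congr 1
  ext y
  simp only [Finset.coe_filter, Finset.mem_erase, Finset.mem_filter, Finset.mem_univ, true_and, Set.mem_ofPred_eq,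
    MulAction.orbit_eq_iff]
  refine ⟨fun h => h.2, fun h => ⟨?_, h⟩⟩
  obtain ⟨a, rfl⟩ := h
  exact ⟨(map_ne_one_iff _ (a : MulAut W).injective).2 hx.1, hU _ a.2 _ hx.2⟩

theorem le_of_trans (hW : Nat.card W = 2 ^ n) (hX : ∀ x y : W, x ≠ 1 → y ≠ 1 → ∃ a ∈ X, a x = y) (hK : ⁅K, K⁆ = K)
    (hn : K ≤ N_(X)) : K ≤ X := by
  rcases le_or_gt n 2 with h2 | h2
  · rw [perf_small hW h2 hK]; exact bot_le
  have hi : ∀ x : W, x ≠ 1 → (MulAction.stabilizer (MulAut W) x).relIndex X = 2 ^ n - 1 := fun x hx => by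
    change (MulAction.stabilizer X x).index = _
    rw [MulAction.index_stabilizer, ← hW, ← Set.ncard_univ,
      ← Set.ncard_sdiff_singleton_of_mem (Set.mem_univ (1 : W))]
    congr 1
    ext y
    refine ⟨?_, fun hy => ?_⟩
    · rintro ⟨a, rfl⟩
      exact ⟨trivial, (map_ne_one_iff _ (a : MulAut W).injective).2 hx⟩
    · obtain ⟨a, ha, e⟩ := hX x y hx hy.2
      exact ⟨⟨a, ha⟩, e⟩
  obtain ⟨x, -, hx⟩ := exists_mem_ne_one (A := (⊤ : Subgroup W)) fun e => by
    have := BG.card_eq_one.2 e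
    rw [card_top, hW, Nat.pow_eq_one] at this; omega
  have hd : 2 ^ n - 1 ∣ Nat.card X := hi x hx ▸ BG.relIndex_dvd_card _ _
  by_cases h6 : n = 6
  · subst h6
    have h3 := Nat.prime_three
    obtain ⟨P, hP⟩ := sylow_exists h3 X
    refine perf_frat h3 hP hK hn fun L hL hL' => perf_64 hW (fun U hU => ?_) (IsSylowIn.pg hP h3)
      (IsSylowIn.ne_bot' hP h3 (Dvd.dvd.trans (by norm_num) hd)) hL' hL
    have h9 := dvd_of_orbits (m := 3 ^ 2) U hU fun y hy => by
      change _ ∣ (MulAction.stabilizer (MulAut W) y).relIndex P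
      have h4 : 3 ^ 2 ∣ (MulAction.stabilizer (MulAut W) y ⊓ P).relIndex X := by
        refine Dvd.dvd.trans ?_ (relIndex_dvd_left X inf_le_left)
        rw [hi y hy]; norm_num
      rw [← relIndex_mul inf_le_right hP.le, inf_relIndex_right] at h4
      exact ((h3.coprime_iff_not_dvd.2 (IsSylowIn.not_dvd' hP h3)).pow_left 2).dvd_of_dvd_mul_right h4
    obtain ⟨d, hd, e'⟩ := (Nat.dvd_prime_pow Nat.prime_two).1 (hW ▸ card_dvd_top U)
    rw [e'] at h9
    interval_cases d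
    · exact Or.inl (BG.card_eq_one.1 e')
    iterate 5 norm_num at h9
    exact Or.inr (eq_top_of_card_eq _ (e'.trans hW.symm))
  obtain ⟨p, hp, h3, h4⟩ := H27.zsigmondy_of_three_le (a := 2) le_rfl h2 fun e => h6 e.2
  obtain ⟨P, hP⟩ := sylow_exists hp X
  refine perf_frat hp hP hK hn fun L hL hL' => perf_zsig hW hp (fun e => ?_) h4 (IsSylowIn.pg hP hp)
    (IsSylowIn.ne_bot' hP hp (h3.trans hd)) hL' hL
  subst e
  have := (Nat.dvd_sub_iff_right Nat.one_le_two_pow (dvd_pow_self 2 (by omega : n ≠ 0))).1 h3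
  omega

end H23.OS
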